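import Cfsg.Agent.Cv.O1

/-! The reduction modulo the odd core, for one group. -/

set_option autoImplicit false

namespace CF.Cv
open Subgroup Cfsg CF.BG CF.GW CF.StA Cfsg.Lie

variable {G : Type*} [Group G] [Finite G]

theorem red_O' {F : Type*} [Field F] [Fintype F] (hF : Fintype.card F = 4)
    (H : ∀ A : Subgroup (G ⧸ oddCore G), IsStandardSubgroup A → ¬ PRankLE 2 1 (𝐂 A) →
      Nonempty ((A ⧸ center A) ≃* Matrix.ProjectiveSpecialLinearGroup (Fin 3) F) → A.Normal ∨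
        Nonempty (A ≃* Matrix.ProjectiveSpecialLinearGroup (Fin 3) F) ∧ Spor.IsoSuz (normalClosure (A : Set (G ⧸ oddCore G))) ∨
          IsKleinFour (center A) ∧ Spor.IsoHe (normalClosure (A : Set (G ⧸ oddCore G))))
    (A : Subgroup G) (hA : IsStandardSubgroup A) (hR : ¬ PRankLE 2 1 (𝐂 A))
    (hAX : Nonempty ((A ⧸ center A) ≃* Matrix.ProjectiveSpecialLinearGroup (Fin 3) F) ∨ Nonempty ((A ⧸ center A) ≃* chevG2.group F)) :
    A.Normal ∨ (Nonempty (A ≃* chevG2.group F) ∧ Spor.IsoCo1 (normalClosure (A : Set G))) ∨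
      ((Nonempty (A ≃* Matrix.ProjectiveSpecialLinearGroup (Fin 3) F) ∨ Nonempty (A ≃* Matrix.SpecialLinearGroup (Fin 3) F)) ∧
        (Spor.IsoSuz (normalClosure (A : Set G)) ∨ ∃ (N : Subgroup (normalClosure (A : Set G))) (_ : N.Normal), Nat.card N = 3 ∧
          Spor.IsoSuz (normalClosure (A : Set G) ⧸ N))) ∨
      (Nonempty ((A ⧸ center A) ≃* Matrix.ProjectiveSpecialLinearGroup (Fin 3) F) ∧ IsKleinFour (center A) ∧
        Spor.IsoHe (normalClosure (A : Set G))) := by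
  have h := qc_of hA hR
  have o : Odd (♯(QuotientGroup.mk' (oddCore G)).ker) := by rw [QuotientGroup.ker_mk']; exact Bender.oddCore_odd
  have hO : oddCore (G ⧸ oddCore G) = ⊥ := Solv.pPrimeCore_quotient_pPrimeCore
  generalize QuotientGroup.mk' (oddCore G) = f at h o
  obtain ⟨s, r⟩ := h.std o hA hR
  obtain ⟨e⟩ := h.ctr
  have nX := MulEquiv.subgroupCongr (map_normalClosure (A : Set G) f h.su)
  have nm : (A.map f).Normal → A.Normal := fun n => normalizer_eq_top_iff.1 (eq_top_iff.2 fun x _ => h.nrm.1 (nrm_all _ _))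
  have k := ker_odd (A := normalClosure (A : Set G)) o
  have l := ker_le (f := f) (le_normalClosure (H := A))
  have k2 := Nat.coprime_two_right.2 k
  rcases hAX with ⟨⟨j⟩⟩ | ⟨⟨j⟩⟩
  · rcases H _ s r ⟨e.symm.trans j⟩ with n | ⟨⟨a⟩, ⟨b⟩⟩ | ⟨a, ⟨b⟩⟩
    · exact .inl (nm n)
    · have d := k2.dvd_of_dvd_mul_left (n := 3) (h.nc.lift Agent.S2048.result (nX.trans b))
      refine .inr (.inr (.inl ⟨((Nat.dvd_prime Nat.prime_three).1 (l.trans d)).imp (fun c => ⟨(iso_of c).some.trans a⟩) fun c => ?_,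
        ((Nat.dvd_prime Nat.prime_three).1 d).imp (fun c => ⟨(iso_of c).some.trans (nX.trans b)⟩) fun c => ⟨_, inferInstance, c,
          ⟨(QuotientGroup.quotientKerEquivOfSurjective _ (f.subgroupMap_surjective _)).trans (nX.trans b)⟩⟩⟩))
      obtain ⟨σ, p, su, z, q⟩ := h.stem a
      exact sl3 hF p su z (q ▸ c)
    · have d := h.nc.lift Agent.S2049.result (nX.trans b)
      have z := centerCongr (iso_of (Nat.dvd_one.1 (l.trans d))).some
      exact .inr (.inr (.inr ⟨⟨j⟩, ⟨(Nat.card_congr z.toEquiv).trans a.1, (Monoid.exponent_eq_of_mulEquiv z).trans a.2⟩,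
        ⟨(iso_of (Nat.dvd_one.1 d)).some.trans (nX.trans b)⟩⟩))
  · refine (g24 hO s r hF (e.symm.trans j)).imp nm fun ⟨⟨a⟩, ⟨b⟩⟩ => .inl ?_
    have d := k2.eq_one_of_dvd (h.nc.lift Agent.S2043.result (nX.trans b))
    exact ⟨⟨(iso_of (Nat.dvd_one.1 (l.trans d.dvd))).some.trans a⟩, ⟨(iso_of d).some.trans (nX.trans b)⟩⟩

end CF.Cv
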