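import Cfsg.Agent.Cv.Z1

/-! The diagonal four-group for a quasisimple subgroup with a centre of odd order. -/

set_option autoImplicit false
set_option linter.unusedSectionVars false
set_option linter.constructorNameAsVariable false
set_option synthInstance.maxSize 2048

namespace CF.CvZ
open Subgroup Cfsg CF.BG CF.GW CF.Ab2 Equiv CF.StA CF.Kondo
open CF.SzC hiding In Cf Xi

variable {G : Type*} [Group G] [Finite G] {n : ℕ} {u v t : V n} {σ : Perm (Fin n)} {a b c i j : Fin n} {k l κ : K}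
  {f ζ ρ ξ : K → G} {Co : G → V n → Prop} {A B M S U Z : Subgroup G} {g o p q w x y η : G}

/-- the data in the standard subgroup -/
structure In (A : Subgroup G) (ζ : K → G) (Co : G → V n → Prop) (Z B : Subgroup G) (η : G) (a b c i j : Fin n) : Prop
    extends Px (SS a b c) ζ Co Z B where
  hn : n = 5 ∨ n = 8
  d5 : D5 a b c i j
  BA : B ≤ A
  ns : QO A
  st : St A
  hA : η ∈ A
  h3 : η * η * η ∈ 𝐂 A
  hz : ∀ k, η * ζ k * η⁻¹ = ζ (ω * k)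
  hc : ∀ p u, Co p u → Co (η * p * η⁻¹) (ω' • u)
  nq : 𝐍 (A ⊓ 𝐂 Z : Subgroup G) ≤ 𝐍 B
  cq : 𝐂 B ⊓ 𝐂 (A ⊓ 𝐂 A : Subgroup G) ≤ 𝐂 (A ⊓ 𝐂 Z : Subgroup G)
  kr : ∀ w ∈ 𝐍 A ⊓ 𝐂 Z, Ac Co w 1 → w ∈ 𝐂 A ⊔ B

namespace In
variable (h : In A ζ Co Z B η a b c i j)
include h

theorem sw : In A ζ Co Z B η a b c j i := { h with d5 := h.d5.sw' }
theorem za : Ad ζ := h.zadd
theorem BC : B ≤ A ⊓ 𝐂 Z := le_inf h.BA h.zc
theorem ZA (k : K) : ζ k ∈ A := h.BA (h.ZP (h.zZ k))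
theorem kz (hx : x ∈ 𝐂 A) (k : K) : x * ζ k = ζ k * x := (mem_cent.1 hx _ (h.ZA k)).symm
theorem KY : 𝐂 A ≤ 𝐂 (A ⊓ 𝐂 Z : Subgroup G) := cent_anti inf_le_left
theorem YB : 𝐂 (A ⊓ 𝐂 Z : Subgroup G) ≤ 𝐂 B := cent_anti h.BC
theorem BZ : 𝐂 B ≤ 𝐂 Z := cent_anti h.ZP
theorem ZY : Z ≤ 𝐂 (A ⊓ 𝐂 Z : Subgroup G) := cent_symm inf_le_right
theorem cB (hp : p ∈ B) (e : p ∈ 𝐂 B) : p ∈ Z :=
  let ⟨_, r⟩ := h.ex p hp
  h.ker' r (h.d5.ndS (h.sS r) fun v x y => let ⟨q, r'⟩ := h.sur v y x; (h.comm_iff r r').1 (mem_cent.1 e q (h.mem r')).symm)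
theorem nZ : 𝐍 B ≤ 𝐍 Z := fun _ e => HNR.mem_norm_of fun _ hx =>
  h.cB (conj_mem_of_norm e (h.ZP hx)) (conj_mem_of_norm (norm_le_norm_cent _ e) (cent_symm h.zc hx))
theorem nC : 𝐍 A ⊓ 𝐍 Z ≤ 𝐍 (A ⊓ 𝐂 Z : Subgroup G) := norm_inf_cent inf_le_left inf_le_right
theorem hZ : η ∈ 𝐍 Z := HNR.mem_norm_of fun _ hx => let ⟨k, e⟩ := h.zm.1 hx; e ▸ h.hz k ▸ h.zZ _
theorem hC : η ∈ 𝐍 (A ⊓ 𝐂 Z : Subgroup G) := h.nC ⟨le_norm_self A h.hA, h.hZ⟩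
theorem hz' (k : K) : η⁻¹ * ζ k * η = ζ (ω' * k) := by
  rw [← mul_left_inj η⁻¹, ← mul_right_inj η, ← mul_assoc _ (ζ _), h.hz, ← mul_assoc ω, wv, one_mul]; group

theorem cent (hw : w ∈ 𝐍 A) (e : w ∈ 𝐂 B) : ∃ x ∈ 𝐂 A, ∃ l, x * ζ l = w := by
  obtain ⟨x, hx, q, hq, rfl⟩ := (mem_sup_norm' (norm_of_cent' (cent_anti h.BA))).1 (h.kr w ⟨hw, h.BZ e⟩ (h.acC e))
  obtain ⟨l, rfl⟩ := h.zm.1 (h.cB hq ((mul_mem_cancel_left (cent_anti h.BA hx)).1 e))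
  exact ⟨x, hx, l, rfl⟩

theorem sc : Sc B η := ⟨h.nq h.hC, fun p hp q hq => by
  obtain ⟨u, e⟩ := h.ex p hp; obtain ⟨v, e'⟩ := h.ex q hq
  rw [h.conj (h.hc _ _ e) e', h.conj e e', h.cz' (h.zc hq), h.cz' (h.zc hq), smul_Bf, ← ww, mul_assoc ω, ← h.hz, ← h.hz]; group⟩

theorem tr (s : Sc B x) (e : ∀ k, x * ζ k * x⁻¹ = ζ (ω * k)) : Ac Co (η⁻¹ * x) 1 := h.ac1 fun p hp => by
  have m := conj_mem_of_norm s.1 hp; have m' := conj_mem_of_norm h.sc.1 hp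
  obtain ⟨u, r⟩ := h.ex _ m; obtain ⟨v, r'⟩ := h.ex _ m'
  have := conj_mem_of_norm' h.hZ (h.ker' (h.mul r (h.inv r')) (h.d5.ndS ((h.sS r).add (h.sS r')) fun t y z => by
    obtain ⟨q, e'⟩ := h.sur t z y
    obtain ⟨l, m⟩ := h.zm.1 (h.commZ hp (h.mem e'))
    have h1 := s.2 p hp q (h.mem e'); have h2 := h.sc.2 p hp q (h.mem e')
    rw [← m, h.conj r e', show x * x * ζ l * (x * x)⁻¹ = x * (x * ζ l * x⁻¹) * x⁻¹ by group, e, e] at h1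
    rw [← m, h.conj r' e', show η * η * ζ l * (η * η)⁻¹ = η * (η * ζ l * η⁻¹) * η⁻¹ by group, h.hz, h.hz, ← h1] at h2
    rw [add_Bf, add0, h.zeq (mul_left_cancel (mul_right_cancel h2))]))
  simpa [mul_assoc] using this

theorem lin (hx : x ∈ 𝐂 Z) (e : Ac Co x 1) : ∃ q ∈ B, q⁻¹ * (x * (η * x * η⁻¹)) ∈ 𝐂 B := by
  have : ∀ u : V n, ∃ k, ∀ p, Co p u → x * p * x⁻¹ = p * ζ k := fun u => by
    by_cases s : ∃ p, Co p u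
    · obtain ⟨q, r⟩ := s
      obtain ⟨k, m⟩ := h.eqz' r (e _ _ r) (cn_self _)
      refine ⟨k, fun p r' => ?_⟩
      obtain ⟨l, rfl⟩ := h.eqz' r r' (cn_self _)
      rw [mul_assoc q, h.za.comm, ← mul_assoc q, ← m, ← mul_assoc, mul_assoc _ (ζ l), ← h.cz (inv_mem hx), ← mul_assoc]
    · exact ⟨0, fun p r => absurd ⟨p, r⟩ s⟩
  choose φ hφ using this
  have fa : ∀ u v, SS a b c u → sm u = 0 → SS a b c v → sm v = 0 → φ (u + v) = φ u + φ v := fun u v s z s' z' => by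
    obtain ⟨p, r⟩ := h.sur u z s; obtain ⟨q, r'⟩ := h.sur v z' s'
    have := hφ _ _ (h.mul r r')
    rw [show x * (p * q) * x⁻¹ = x * p * x⁻¹ * (x * q * x⁻¹) by group, hφ _ _ r, hφ _ _ r', mul_assoc p, ← mul_assoc (ζ _),
      ← h.cz (h.zc (h.mem r')), mul_assoc q, ← h.zadd, ← mul_assoc] at this
    exact (h.zeq (mul_left_cancel this)).symm
  have fc : ∀ u, Cn u → sm u = 0 → φ u = 0 := fun u s z => h.zinj _ (by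
    simpa using (hφ _ _ (h.cco (h.co0 (one_mem _)) z (by simpa using s))).symm)
  obtain ⟨t, s, z, e'⟩ := h.d5.rep h.hn (fun u => φ u + ω * φ (ω • u)) (fun u v s z s' z' => by
    simp only [smul_add, fa u v s z s' z', fa _ _ (s.smul ω) (by simp [z]) (s'.smul ω) (by simp [z'])]; ring) (fun u s z => by
    have := fa _ _ s z (s.smul ω) (by simp [z])
    rw [show u + ω • u = ω • ω • u by rw [← mul_smul, ww, show ω' = 1 + ω from rfl, add_smul, one_smul]] at this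
    simp only [this]; generalize φ u = k, φ (ω • u) = l; revert k l; decide)
    fun u s z => by simp [fc u s z, fc _ (s.smul ω) (by simp [z])]
  obtain ⟨q, r⟩ := h.sur t z s
  refine ⟨q, h.mem r, mem_cent.2 fun p hp => ?_⟩
  obtain ⟨u, r'⟩ := h.ex p hp
  have r2 := h.hc _ _ (h.hc _ _ r')
  rw [← mul_smul, show ω' * ω' = ω from rfl, show η * (η * p * η⁻¹) * η⁻¹ = η⁻¹ * (η * η * η * p * (η * η * η)⁻¹) * η by group,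
    conj_eq_of_comm (mem_cent.1 h.h3 p (h.BA hp)).symm] at r2
  have h1 := congrArg (η * · * η⁻¹) (hφ _ _ r2)
  have h2 := h.conj r r'
  simp only [← e' u (h.sS r') (h.sz r'), h.zadd, ← h.hz, ← mul_assoc, ← hφ _ _ r'] at h1 h2
  have h3 := h.cz hx (ω * φ (ω • u))
  rw [← h.hz] at h3
  calc _ = q⁻¹ * (q * p * q⁻¹) * q * (q⁻¹ * (x * (η * x * η⁻¹))) := by group
    _ = q⁻¹ * (x * p * (x⁻¹ * (η * ζ (φ (ω • u)) * η⁻¹) * x) * (η * x * η⁻¹)) := by rw [h2]; group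
    _ = q⁻¹ * x * (η * η⁻¹ * p * η * ζ (φ (ω • u)) * η⁻¹) * (η * x * η⁻¹) := by rw [mul_assoc x⁻¹, ← h3]; group
    _ = _ := by rw [← h1]; group

end In

/-- the diagonal four-group -/
structure Cf (A : Subgroup G) (ζ : K → G) (Co : G → V n → Prop) (Z B : Subgroup G) (η : G) (a b c i j : Fin n)
    (g : G) (ρ : K → G) : Prop extends In A ζ Co Z B η a b c i j where
  gA : g ∉ 𝐍 A
  gC : g ∈ 𝐍 B
  ra : Ad ρ
  rK : ∀ k, ρ k ∈ 𝐂 A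
  rT : ∀ k, ρ k * ζ k ∈ 𝐂 (cj g A)

/-- the complement -/
structure Xi (A : Subgroup G) (ζ : K → G) (Co : G → V n → Prop) (Z B : Subgroup G) (η : G) (a b c i j : Fin n)
    (g : G) (ρ ξ : K → G) (κ : K) : Prop extends Cf A ζ Co Z B η a b c i j g ρ where
  xY : ∀ k, ξ k ∈ 𝐂 (A ⊓ 𝐂 Z : Subgroup G)
  xO : ∀ k, ξ k ∈ centralizer (Oo A (ρ 1))
  xm : ∀ k, Mv ρ ζ (ξ k) k
  xa : ∀ k l, ∃ m, ξ k * ξ l = ξ (k + l) * ζ (κ * m)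
  xs : ∀ k, ξ k * ξ k = ζ (κ * k)
  x0 : ξ 0 = 1
  xh : ∀ k, η * ξ k * η⁻¹ = ξ (ω * k)

namespace Cf
variable (h : Cf A ζ Co Z B η a b c i j g ρ)
include h

theorem sw : Cf A ζ Co Z B η a b c j i g ρ := { h with d5 := h.d5.sw' }
theorem gZ : g ∈ 𝐍 Z := h.nZ h.gC
theorem C1 : B ≤ cj g A := fun _ hx => mem_cj.2 (h.BA (conj_mem_of_norm' h.gC hx))
theorem ti (hx : x ∈ 𝐂 A) (h1 : x ∈ 𝐂 (cj g A)) (e : E2 x) : x = 1 := by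
  by_contra x1
  obtain ⟨y, hy, i⟩ := BG.exists_mem_orderOf_eq p2 (e.zpowers.dvd_card (ne_bot_of_mem (mem_zpowers x) x1))
  exact h.gA (h.st.ti _ (mem_cjc.2 (zpowers_le.2 h1 hy)) (Iv.conj' i g) g (by simpa [mul_assoc] using zpowers_le.2 hx hy))
theorem iv (e : k ≠ 0) : Iv (ρ k) := .mk' (fun r => e (h.zinj _ ((h.ns.cj g).one (h.C1 (h.ZP (h.zZ k)))
  (by simpa [r] using h.rT k) (h.zz k)))) (h.ra.sq k)
theorem rz (k l : K) : ρ k * ζ l = ζ l * ρ k := h.kz (h.rK k) l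
theorem rinj (e : ρ k ∈ A) : k = 0 := by_contra fun r => (h.iv r).ne_one (h.ns.one e (h.rK k) (h.ra.sq k))
theorem nA (e : k ≠ 0) (c : w * ρ k = ρ k * w) : w ∈ 𝐍 A := h.st.cen (h.rK k) (h.iv e) c

theorem cy1 (hw : w ∈ 𝐂 B) (c : w * ρ 1 = ρ 1 * w) : ∃ l, w * ζ l ∈ 𝐂 (cj g A) := by
  have i : Iv (ρ 1 * ζ 1) := .mk' (fun r => one_ne_zero (h.rinj (by rw [eq_inv_of_mul_eq_one_left r]; exact inv_mem (h.ZA 1))))
    (by rw [mul_assoc, ← mul_assoc (ζ 1), ← h.rz, mul_assoc, h.zz, mul_one, h.ra.sq])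
  obtain ⟨x, hx, l, e⟩ := h.cent (h.st.cen (x := g⁻¹ * w * g) (mem_cjc.2 (h.rT 1)) (i.conj' g) (by
    simpa using (show Commute w (ρ 1 * ζ 1) from Commute.mul_right c (h.cz (h.BZ hw) 1)).conj g⁻¹))
    (conj_mem_of_norm' (norm_le_norm_cent _ h.gC) hw)
  obtain ⟨m, r⟩ := h.zm.1 (conj_mem_of_norm h.gZ (h.zZ l))
  exact ⟨m, mem_cjc.1 (by rwa [r, show g⁻¹ * (w * (g * ζ l * g⁻¹)) * g = g⁻¹ * w * g * ζ l by group, ← e, mul_assoc, h.zz, mul_one])⟩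

theorem syl : Syl 2 h.ra.rg (𝐂 A ⊓ 𝐂₁ (ρ 1)) :=
  syl_of_max (h.ra.le.2 fun k => ⟨h.rK k, mem_cent1.2 (h.ra.comm _ _)⟩) h.ra.two fun Q l two l' => (eq_of_card_le l' (by
    have := card_le_fib (M := Q) (N := ⊥) (fun x (k : K) => x * ζ k ∈ 𝐂 (cj g A))
      (fun x hx => h.cy1 (cent_anti h.BA (l hx).1) (mem_cent1.1 (l hx).2)) fun x hx y hy k e e' => by
        have m := mul_mem (inv_mem hx) hy
        refine h.ti (l m).1 ?_ (two.elt m)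
        have := mul_mem (inv_mem e) e'
        rwa [mul_inv_rev, mul_assoc, ← mul_assoc x⁻¹, h.kz (l m).1, inv_mul_cancel_left] at this
    rw [bot_inf_eq, card_bot, one_mul, ← Nat.card_eq_fintype_card] at this
    exact this.trans (Nat.card_le_card_of_injective (fun k => (⟨ρ k, h.ra.m k⟩ : h.ra.rg)) fun k l e => add0.1 (h.rinj (by
      rw [h.ra, show ρ k = ρ l from congrArg Subtype.val e, h.ra.sq]; exact one_mem _))))).symm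

theorem dec (hx : x ∈ 𝐂 A) (e : x ∈ 𝐂 h.ra.rg) : ∃ k, ∃ o ∈ Oo A (ρ 1), o ∈ 𝐂 h.ra.rg ∧ ρ k * o = x := by
  obtain ⟨y, o, hy, ho, e2, eo, r⟩ := exists_piPart {2} x
  have m : ∀ y ∈ zpowers x, y ∈ 𝐂 A ∧ y ∈ 𝐂 h.ra.rg := fun y hy => ⟨zpowers_le.2 hx hy, zpowers_le.2 e hy⟩
  obtain ⟨k, rfl⟩ := h.syl.mem_of_norm ⟨(m y hy).1, cent_le_cent1 (h.ra.m 1) (m y hy).2⟩ (cent_le_norm _ (m y hy).2) e2
  exact ⟨k, o, ⟨(m o ho).1, eo, h.ra.cent.1 (m o ho).2 1⟩, (m o ho).2, r⟩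

theorem odd (hx : x ∈ 𝐂 B) (e : Eo x) (c : x * ρ 1 = ρ 1 * x) : x ∈ Oo A (ρ 1) := by
  obtain ⟨y, hy, l, rfl⟩ := h.cent (h.nA one_ne_zero c) hx
  refine ⟨mem_of_sq e ?_, e, c⟩
  rw [mul_assoc, ← mul_assoc (ζ l), ← h.kz hy, mul_assoc, h.zz, mul_one]; exact mul_mem hy hy

theorem mv0 : Mv ρ ζ w 0 ↔ w ∈ 𝐂 h.ra.rg := by simp only [Mv, zero_mul, h.z1, mul_one, h.ra.cent, mul_inv_eq_iff_eq_mul]
theorem mvm (hw : w ∈ 𝐂 Z) (e : Mv ρ ζ w k) (e' : Mv ρ ζ x l) : Mv ρ ζ (w * x) (k + l) := fun m => by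
  rw [show w * x * ρ m * (w * x)⁻¹ = w * (x * ρ m * x⁻¹) * w⁻¹ by group, e', add_mul, h.zadd, ← mul_assoc, ← mul_assoc, ← e,
    mul_assoc _ (ζ _), mul_assoc _ w⁻¹, h.cz (inv_mem hw)]
theorem mvi (hw : w ∈ 𝐂 Z) (e : Mv ρ ζ w k) : Mv ρ ζ w⁻¹ k := fun m => by
  have := congrArg (w⁻¹ * · * w * ζ (k * m)) (e m)
  simp only [mul_assoc, ← h.cz hw, inv_mul_cancel_left, inv_mul_cancel, mul_one] at this
  rw [← mul_assoc w (ζ _), h.cz hw, mul_assoc (ζ _), h.cz hw, ← mul_assoc (ζ _), h.zz, one_mul] at this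
  rw [inv_inv, this, mul_assoc]
theorem mvh (e : Mv ρ ζ w k) : Mv ρ ζ (η * w * η⁻¹) (ω * k) := fun m => by
  have c := mem_cent.1 (h.rK m) _ h.hA
  rw [mul_assoc ω, ← h.hz, show η * w * η⁻¹ * ρ m * (η * w * η⁻¹)⁻¹ = η * (w * (η⁻¹ * (ρ m * η)) * w⁻¹) * η⁻¹ by group, ← c,
    inv_mul_cancel_left, e, ← mul_assoc, c]; group

theorem dec2 (hw : w ∈ 𝐂 B) (e : Mv ρ ζ w 0) : ∃ k l, ∃ o ∈ Oo A (ρ 1), o ∈ 𝐂 h.ra.rg ∧ ρ k * ζ l * o = w := by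
  rw [h.mv0] at e
  obtain ⟨x, hx, l, rfl⟩ := h.cent (h.nA one_ne_zero (h.ra.cent.1 e 1)) hw
  obtain ⟨k, o, ho, c, rfl⟩ := h.dec hx ((mul_mem_cancel_right (h.ra.cent.2 fun k => (h.rz k l).symm)).1 e)
  exact ⟨k, l, o, ho, c, by rw [mul_assoc, ← h.kz ho.1, mul_assoc]⟩

theorem sq2 (hw : w ∈ 𝐂 B) (e : Mv ρ ζ w k) (k0 : k ≠ 0) (e2 : E2 w) : w * w ∈ Z := by
  obtain ⟨m, l, o, ho, c, r⟩ := h.dec2 (mul_mem hw hw) (aa k ▸ h.mvm (h.BZ hw) e e)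
  obtain rfl := okill (show Commute _ o from Commute.mul_left (h.ra.cent.1 c m).symm (h.kz ho.1 l).symm) ((h.ra.e2 m).mul (h.za.e2 l) (h.rz m l))
    (r ▸ e2.mul e2 rfl) ho.2.1
  rw [mul_one] at r
  have : w * (ρ m * ζ l) * w⁻¹ = ρ m * ζ l := by rw [r]; group
  rw [← mul_assoc, mul_assoc _ (ζ l), ← h.cz (inv_mem (h.BZ hw)), ← mul_assoc, e, mul_left_inj, mul_eq_left] at this
  rw [← r, (mul_eq_zero.1 (h.zinj _ this)).resolve_left k0, h.ra.z, one_mul]; exact h.zZ l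

theorem ex1 : ∃ y ∈ 𝐂 B, Mv ρ ζ y 1 := by
  have n : g * η * g⁻¹ ∈ 𝐍 B := mul_mem (mul_mem h.gC h.sc.1) (inv_mem h.gC)
  obtain ⟨x, m, s, e⟩ : ∃ x ∈ cj g A, Sc B x ∧ ∀ k, x * ζ k * x⁻¹ = ζ (ω * k) := by
    choose f hf using fun k => h.zm.1 (conj_mem_of_norm (h.nZ n) (h.zZ k))
    have fa : ∀ k l, f (k + l) = f k + f l := fun k l => h.zeq (by rw [h.zadd, hf, hf, hf, h.zadd]; group)
    have ff : ∀ k, f (f k) = k + f k := fun k => h.zeq (by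
      obtain ⟨l, r⟩ := h.zm.1 (conj_mem_of_norm' h.gZ (h.zZ k))
      have e : ζ k = g * ζ l * g⁻¹ := by rw [r]; group
      have := congrArg (g * · * g⁻¹) (show η * (η * ζ l * η⁻¹) * η⁻¹ = ζ l * (η * ζ l * η⁻¹) by
        rw [h.hz, h.hz, ← h.zadd]; congr 1; clear r e; revert l; decide)
      rw [h.zadd, hf, hf, e]; simpa [mul_assoc] using this)
    rcases ord3 f fa ff with e | e
    · exact ⟨_, conj_mem_cj.2 h.hA, h.sc.cj h.gC, fun k => by rw [← hf, e]⟩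
    · exact ⟨_, inv_mem (conj_mem_cj.2 h.hA), (h.sc.cj h.gC).inv, fun k => by rw [← e k, hf, e]; group⟩
  have c : η⁻¹ * x ∈ 𝐂 Z := mem_cent.2 fun _ r => by
    obtain ⟨k, rfl⟩ := h.zm.1 r
    rw [mul_assoc, mul_inv_eq_iff_eq_mul.1 (e k), ← h.hz]; group
  have mv : Mv ρ ζ (η⁻¹ * x) ω := fun l => by
    have c1 := mem_cent.1 (h.rT l) _ m; have c2 := mem_cent.1 (h.rK l) _ (inv_mem h.hA)
    calc _ = η⁻¹ * (x * (ρ l * ζ l) * x⁻¹ * (x * (ζ l)⁻¹ * x⁻¹)) * η := by group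
      _ = η⁻¹ * ρ l * (ζ l * ζ (ω * l)) * η := by rw [c1, h.zi, e]; group
      _ = _ := by rw [c2, ← h.zadd, mul_assoc, mul_assoc, ← mul_assoc η⁻¹, h.hz']; congr 2; clear c1 c2; revert l; decide
  obtain ⟨q, hq, r⟩ := h.lin c (h.tr s e)
  exact ⟨_, r,
    h.mvm (inv_mem (h.zc hq)) (h.mv0.2 (inv_mem (h.ra.cent.2 fun k => mem_cent.1 (h.rK k) _ (h.BA hq)))) (h.mvm c mv (h.mvh mv))⟩

/-- the stabiliser of the chain -/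
def UU : Subgroup G where
  carrier := {w | w ∈ 𝐂 B ∧ ∃ k, Mv ρ ζ w k}
  one_mem' := ⟨one_mem _, 0, h.mv0.2 (one_mem _)⟩
  mul_mem' := fun ⟨x, _, e⟩ ⟨y, _, e'⟩ => ⟨mul_mem x y, _, h.mvm (h.BZ x) e e'⟩
  inv_mem' := fun ⟨x, _, e⟩ => ⟨inv_mem x, _, h.mvi (h.BZ x) e⟩

theorem uodd (ho : o ∈ h.UU) (e : Eo o) : Mv ρ ζ o 0 :=
  let ⟨x, k, m⟩ := ho; h.mv0.2 (mem_of_sq e (h.mv0.1 (aa k ▸ h.mvm (h.BZ x) m m)))

theorem uo (hw : w ∈ h.UU) (ho : o ∈ Oo A (ρ 1)) : w * o * w⁻¹ ∈ Oo A (ρ 1) := by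
  obtain ⟨x, k, m⟩ := hw
  refine h.odd (conj_mem_of_norm (le_norm_self _ x) (cent_anti h.BA ho.1)) (ho.2.1.conj w) ?_
  have := (show Commute o (w⁻¹ * ρ 1 * w⁻¹⁻¹) from h.mvi (h.BZ x) m 1 ▸ Commute.mul_right ho.2.2 (h.kz ho.1 _)).conj w
  simpa [mul_assoc] using this.eq

theorem uh (hw : w ∈ h.UU) : η * w * η⁻¹ ∈ h.UU :=
  let ⟨x, _, m⟩ := hw; ⟨conj_mem_of_norm (norm_le_norm_cent _ h.sc.1) x, _, h.mvh m⟩

omit h in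
theorem oh (hx : x ∈ A) : x ∈ centralizer (Oo A y) := fun _ ho => (mem_cent.1 ho.1 x hx).symm

theorem xi : ∃ ξ κ, Xi A ζ Co Z B η a b c i j g ρ ξ κ := by
  obtain ⟨y, hy, m⟩ := h.ex1
  have uy : y ∈ h.UU := ⟨hy, _, m⟩
  have u2 : η * y * η⁻¹ * y⁻¹ ∈ h.UU ⊓ centralizer (Oo A (ρ 1)) := mem_inf.2 ⟨mul_mem (h.uh uy) (inv_mem uy), by
    rw [mul_assoc, mul_assoc]
    exact mul_mem (oh h.hA) fun o ho => by
      simpa [mul_assoc] using congrArg (y * · * y⁻¹) (oh (inv_mem h.hA) _ (h.uo (inv_mem uy) ho))⟩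
  have m2 := h.mvm (h.BZ (h.uh uy).1) (h.mvh m) (h.mvi (h.BZ hy) m)
  clear hy m uy
  obtain ⟨y, o, hy, ho, e2, eo, r⟩ := exists_piPart {2} (η * y * η⁻¹ * y⁻¹)
  replace hy := zpowers_le.2 u2 hy; replace ho := zpowers_le.2 u2 ho
  have m := h.mvm (h.BZ u2.1.1) m2 (h.mvi (h.BZ ho.1.1) (h.uodd ho.1 eo))
  rw [← r, mul_inv_cancel_right] at m
  have cu : ∀ w ∈ h.UU ⊓ centralizer (Oo A (ρ 1)), η * w * η⁻¹ ∈ h.UU ⊓ centralizer (Oo A (ρ 1)) := fun w e =>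
    mem_inf.2 ⟨h.uh e.1, mul_mem (mul_mem (oh h.hA) e.2) (inv_mem (oh h.hA))⟩
  have hx := mul_mem (cu y hy) (inv_mem hy)
  have ex := e2_mul (fun o ho e => mem_cent.2 fun w hw => (hw.2 o (h.odd ho.1.1 e
    (h.ra.cent.1 (h.mv0.1 (h.uodd ho.1 e)) 1))).symm) (cu y hy) (inv_mem hy) (e2.conj η) e2.inv
  have mx : Mv ρ ζ _ ω := h.mvm (h.BZ (cu y hy).1.1) (h.mvh m) (h.mvi (h.BZ hy.1.1) m)
  have zo : ∀ x ∈ A ⊓ 𝐂 A, x ∈ Oo A (ρ 1) := fun x m => ⟨m.2, h.ns.od.elt m, mem_cent.1 (h.rK 1) x m.1⟩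
  have e3 : ∀ x ∈ centralizer (Oo A (ρ 1)), η * (η * (η * x * η⁻¹) * η⁻¹) * η⁻¹ = x := fun x m => by
    rw [show η * (η * (η * x * η⁻¹) * η⁻¹) * η⁻¹ = η * η * η * x * (η * η * η)⁻¹ by group,
      conj_eq_of_comm (m _ (zo _ ⟨mul_mem (mul_mem h.hA h.hA) h.hA, h.h3⟩))]
  have pr : η * (η * (η * y * η⁻¹ * y⁻¹) * η⁻¹) * η⁻¹ * (η * (η * y * η⁻¹ * y⁻¹) * η⁻¹) * (η * y * η⁻¹ * y⁻¹) = 1 := by
    rw [show η * (η * (η * y * η⁻¹ * y⁻¹) * η⁻¹) * η⁻¹ = η * (η * (η * y * η⁻¹) * η⁻¹) * η⁻¹ * (η * (η * y * η⁻¹) * η⁻¹)⁻¹ by group,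
      e3 _ hy.2]; group
  generalize η * y * η⁻¹ * y⁻¹ = x at hx ex mx pr
  obtain ⟨l, s⟩ := h.zm.1 (h.sq2 hx.1.1 mx w0 ex)
  obtain ⟨ξ, x0, rfl, xh⟩ : ∃ ξ : K → G, ξ 0 = 1 ∧ ξ ω = x ∧ ∀ k, η * ξ k * η⁻¹ = ξ (ω * k) :=
    ⟨fun k => match k with | .o => 1 | .w => x | .v => η * x * η⁻¹ | .e => η * (η * x * η⁻¹) * η⁻¹, rfl, rfl, fun k => by
      cases k; exacts [by simp [show ω * K.o = K.o from rfl], e3 x hx.2, rfl, rfl]⟩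
  rw [xh, xh] at pr
  have ind : ∀ p : K → Prop, p 0 → p ω → (∀ k, p k → p (ω * k)) → ∀ k, p k := fun p a b c k => by
    cases k; exacts [a, c _ (c _ b), b, c _ b]
  have xu := ind (fun k => ξ k ∈ h.UU ⊓ centralizer (Oo A (ρ 1))) (x0 ▸ one_mem _) hx fun k e => xh k ▸ cu _ e
  have cz := fun k => h.cz (h.BZ (xu k).1.1)
  have xs := ind (fun k => ξ k * ξ k = ζ (l * ω' * k)) (by rw [mul_zero, h.z1, x0, mul_one])
    (by rw [mul_assoc, mul_comm ω', wv, mul_one, s]) fun k e => by rw [← xh, mul_left_comm, ← h.hz, ← e]; group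
  have x1 : ξ ω * ξ 1 = ξ ω' * ζ (l * ω' * ω') := by
    rw [← h.zi, ← xs, mul_inv_rev (ξ ω'), mul_inv_cancel_left, eq_inv_iff_mul_eq_one]
    simpa [mul_assoc] using congrArg (ξ ω * · * (ξ ω)⁻¹) (show ξ 1 * ξ ω' * ξ ω = 1 from pr)
  have x2 : ξ 1 * ξ ω = ξ ω * ξ 1 := by
    have : ξ ω * ξ 1 * (ξ ω * ξ 1) = ξ ω * ξ ω * (ξ 1 * ξ 1) := by
      rw [x1, xs ω, xs 1, mul_assoc, ← mul_assoc (ζ _), ← cz, mul_assoc, h.zz, mul_one, xs, ← h.zadd]; congr 1; clear * -; revert l; decide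
    simpa [mul_assoc] using congrArg ((ξ ω)⁻¹ * · * (ξ 1)⁻¹) this
  have st : ∀ k k', (∃ m, ξ k * ξ k' = ξ (k + k') * ζ (l * ω' * m)) →
      ∃ m, ξ (ω * k) * ξ (ω * k') = ξ (ω * k + ω * k') * ζ (l * ω' * m) :=
    fun k k' ⟨m, e⟩ => ⟨ω * m, by
      rw [← mul_add, ← xh, ← xh, ← xh, mul_left_comm, ← h.hz]; simpa [mul_assoc] using congrArg (· * η⁻¹) e⟩
  have a1 : ∃ m, ξ ω * ξ 1 = ξ (ω + 1) * ζ (l * ω' * m) := ⟨_, x1⟩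
  have a2 : ∃ m, ξ 1 * ξ ω = ξ (1 + ω) * ζ (l * ω' * m) := ⟨_, x2.trans x1⟩
  have a0 : ∀ k, ∃ m, ξ k * ξ k = ξ (k + k) * ζ (l * ω' * m) := fun k => ⟨_, by rw [aa, xs, x0, one_mul]⟩
  have b0 : ∀ k, ∃ m, ξ k * ξ 0 = ξ (k + 0) * ζ (l * ω' * m) := fun k => ⟨0, by rw [add_zero, mul_zero, h.z1, x0]⟩
  refine ⟨ξ, l * ω', h, fun k => h.cq ⟨(xu k).1.1, mem_cent.2 fun o m => (xu k).2 o (zo o m)⟩, fun k => (xu k).2, ind _ (h.mv0.2 (x0 ▸ one_mem _)) mx fun k e => xh k ▸ h.mvh e,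
    fun k k' => ?_, xs, x0, xh⟩
  cases k
  · exact ⟨0, by rw [mul_zero, h.z1, mul_one]; exact (congrArg (· * _) x0).trans ((one_mul _).trans (congrArg ξ (zero_add _).symm))⟩
  all_goals cases k'
  exacts [b0 1, a0 _, a2, st _ _ (st _ _ a1), b0 ω, a1, a0 _, st _ _ a2, b0 ω', st _ _ (st _ _ a2), st _ _ a1, a0 _]

end Cf

end CF.CvZ
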