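import Cfsg.Agent.Cv.Z1

/-! Frames for a cover of `L₃(4)` with a centre of odd order. -/

set_option autoImplicit false
set_option linter.unusedSectionVars false
set_option linter.constructorNameAsVariable false
set_option synthInstance.maxSize 2048

namespace CF.CvZ
open Subgroup Cfsg CF.BG CF.GW CF.Ab2 Equiv CF.StA CF.Kondo
open CF.SzC hiding In Cf Xi Gd
open CF.SzD hiding Fm Tp XI fu

variable {G : Type*} [Group G] [Finite G] {A A₁ I M P : Subgroup G} {e e₁ : H →* G} {g m r s t v w x y η ν ν' η₁ ν₁ ν₁' : G}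
  {p q : H} {a b c d k l : K} {f π : Bool} {φ ψ : K × K → K × K}

/-- frames -/
structure Fm (A : Subgroup G) (e : H →* G) (η ν ν' : G) : Prop where
  inj : Function.Injective e
  syl : Syl 2 e.range A
  ns : QO A
  c1 : ∀ x ∈ A, x * e (xC 1) = e (xC 1) * x → x ∈ 𝐂 A ⊔ e.range
  hA : η ∈ A
  h3 : η * η * η ∈ 𝐂 A
  hη : ∀ q, η * e q * η⁻¹ = e ⟨ω' * q.x, ω' * q.y, ω * q.u⟩
  nA : ν ∈ A
  hν : ∀ x u, ν * e ⟨x, 0, u⟩ * ν⁻¹ = e ⟨u, 0, x⟩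
  nA' : ν' ∈ A
  hν' : ∀ y u, ν' * e ⟨0, y, u⟩ * ν'⁻¹ = e ⟨0, u, y⟩
  gen : ∀ M, e.range ≤ M → η ∈ M → ν ∈ M → ν' ∈ M → A ≤ M
  aut : ∀ w ∈ 𝐍 A, w ∈ 𝐍 e.range → ∃ a b c d f π, a ≠ 0 ∧ b ≠ 0 ∧ ∀ q, w * e q * w⁻¹ = e (au a b c d f π q)
  ck : ∀ w ∈ 𝐍 A, w ∈ 𝐂 e.range → ∃ k, w * e (xC k) ∈ 𝐂 A

theorem dg_range (e : H →* G) : (e.comp dg).range = e.range := le_antisymm (by rintro _ ⟨q, rfl⟩; exact ⟨_, rfl⟩) (by
  rintro _ ⟨q, rfl⟩; exact ⟨⟨ω' * q.x, ω * q.y, q.u⟩, congrArg e (by revert q; decide +kernel)⟩)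

namespace Fm
variable (h : Fm A e η ν ν')
include h

protected theorem cj (g : G) : Fm (cj g A) (ce g e) (g * η * g⁻¹) (g * ν * g⁻¹) (g * ν' * g⁻¹) := by
  have c : ∀ {w q q'}, w * e q * w⁻¹ = e q' → g * w * g⁻¹ * ce g e q * (g * w * g⁻¹)⁻¹ = ce g e q' := fun r => by
    rw [ce_ap, ce_ap, ← r]; group
  refine ⟨(MulAut.conj g).injective.comp h.inj, ce_range g e ▸ h.syl.cj g, h.ns.cj g, fun x m r => by
    rw [ce_range, ← cj_cent, ← cj_sup]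
    exact mem_cj.2 (h.c1 _ (mem_cj.1 m) (by simpa [mul_assoc] using congrArg (g⁻¹ * · * g) r)), conj_mem_cj.2 h.hA,
      mem_cjc.1 (by simpa [mul_assoc] using h.h3), fun q => c (h.hη q), conj_mem_cj.2 h.nA, fun x u => c (h.hν x u),
    conj_mem_cj.2 h.nA', fun x u => c (h.hν' x u), fun M l a b d => cj_le_iff.2 (h.gen _ (cj_le_iff.1 (ce_range g e ▸ l))
      (mem_cj_inv.2 a) (mem_cj_inv.2 b) (mem_cj_inv.2 d)), fun w m n => ?_, fun w m n => ?_⟩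
  · obtain ⟨a, b, x, y, f, π, a0, b0, r⟩ := h.aut _ (mem_cjn.2 m) (mem_cjn.2 (ce_range g e ▸ n))
    exact ⟨a, b, x, y, f, π, a0, b0, fun q => by simpa [mul_assoc] using c (r q)⟩
  · obtain ⟨k, r⟩ := h.ck _ (mem_cjn.2 m) (mem_cjc.2 (ce_range g e ▸ n))
    exact ⟨k, mem_cjc.1 (by simpa [mul_assoc] using r)⟩

theorem cjN (hm : m ∈ 𝐍 A) : Fm A (ce m e) (m * η * m⁻¹) (m * ν * m⁻¹) (m * ν' * m⁻¹) := by
  simpa only [cj_of_norm hm] using h.cj m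

theorem tw : Fm A (e.comp dg) η (ν * η) (ν' * (η * η)) := by
  have r := dg_range e
  have z : ∀ k, e.comp dg (xC k) = e (xC k) := fun k => congrArg e (by revert k; decide)
  have c : ∀ x y : G, ∀ q, x * y * e q * (x * y)⁻¹ = x * (y * e q * y⁻¹) * x⁻¹ := by intros; group
  refine ⟨h.inj.comp (by decide +kernel : ∀ p q, dg p = dg q → p = q), r ▸ h.syl, h.ns, by rw [r, z]; exact h.c1, h.hA, h.h3,
    fun q => (h.hη _).trans (congrArg e (by revert q; decide +kernel)), mul_mem h.nA h.hA, fun x u => ?_,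
    mul_mem h.nA' (mul_mem h.hA h.hA), fun x u => ?_, fun M l a b d => h.gen M (r ▸ l) a ((mul_mem_cancel_right a).1 b)
      ((mul_mem_cancel_right (mul_mem a a)).1 d), fun w m n => ?_, by simp only [r, z]; exact h.ck⟩
  · rw [MonoidHom.comp_apply, c, h.hη]
    exact (congrArg (ν * e · * ν⁻¹) (by revert x u; decide)).trans ((h.hν x (ω * u)).trans (congrArg e (by revert x u; decide)))
  · rw [MonoidHom.comp_apply, c, c, h.hη, h.hη]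
    exact (congrArg (ν' * e · * ν'⁻¹) (by revert x u; decide)).trans ((h.hν' x (ω' * u)).trans (congrArg e (by revert x u; decide)))
  · obtain ⟨a, b, x, y, f, π, a0, b0, s⟩ := h.aut w m (r ▸ n)
    obtain ⟨a', b', a1, b1, s'⟩ := (by decide +kernel : ∀ a b f π, a ≠ 0 → b ≠ 0 → ∃ a' b', a' ≠ 0 ∧ b' ≠ 0 ∧ a' * b' = a * b ∧
      ∀ x y, am a b f π (ω * x, ω' * y) = (ω * (am a' b' f π (x, y)).1, ω' * (am a' b' f π (x, y)).2)) a b f π a0 b0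
    refine ⟨a', b', ω' * x, ω * y, f, π, a1, b1, fun q => (s _).trans (congrArg e ?_)⟩
    simp only [au, dg, MonoidHom.mk'_apply, s', mul_mul_mul_comm ω, wv, one_mul, H.mk.injEq, true_and]; ring

theorem BA : e.range ≤ A := h.syl.le
theorem eA (q : H) : e q ∈ A := h.BA ⟨q, rfl⟩
theorem KB : 𝐂 A ≤ 𝐂 e.range := cent_anti h.BA
theorem ke (hx : x ∈ 𝐂 A) (q : H) : x * e q = e q * x := (mem_cent.1 hx _ (h.eA q)).symm
theorem iz (k0 : k ≠ 0) : Iv (e (xC k)) := .mk' (fun r => k0 (congrArg H.u (h.inj (r.trans e.map_one.symm)))) ((zA e).sq k)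
theorem hz (k : K) : η * e (xC k) * η⁻¹ = e (xC (ω * k)) := (h.hη _).trans (by simp [xC])
theorem hB : η ∈ 𝐍 e.range := HNR.mem_norm_of (by rintro _ ⟨q, rfl⟩; exact ⟨_, (h.hη q).symm⟩)
theorem one (r : e q = 1) : q = 1 := h.inj (r.trans e.map_one.symm)

theorem zc (k0 : k ≠ 0) : ∃ m ∈ A ⊓ 𝐍 e.range, m * e (xC 1) * m⁻¹ = e (xC k) := by
  have n : η ∈ A ⊓ 𝐍 e.range := ⟨h.hA, h.hB⟩
  cases k
  exacts [absurd rfl k0, ⟨1, one_mem _, by simp; rfl⟩, ⟨η, n, h.hz 1⟩, ⟨η * η, mul_mem n n, by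
    rw [show η * η * e (xC 1) * (η * η)⁻¹ = η * (η * e (xC 1) * η⁻¹) * η⁻¹ by group, h.hz, h.hz]; rfl⟩]

theorem dec : x ∈ 𝐂 A ⊔ e.range ↔ ∃ k ∈ 𝐂 A, ∃ q, e q * k = x := by
  rw [sup_comm, mem_sup_norm' (norm_of_cent h.KB)]
  exact ⟨by rintro ⟨_, ⟨q, rfl⟩, k, m, r⟩; exact ⟨k, m, q, r⟩, fun ⟨k, m, q, r⟩ => ⟨_, ⟨q, rfl⟩, k, m, r⟩⟩

theorem c2 (hx : x ∈ A) (m : x ∈ 𝐂 A ⊔ e.range) (e2 : E2 x) : x ∈ e.range :=
  let ⟨_, hk, q, r⟩ := h.dec.1 m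
  ⟨q, (h.ns.dec hx (one_mem _) (h.eA q) hk (by rw [mul_one, r]) e2 ((two e).elt ⟨q, rfl⟩)).1.symm⟩

theorem cz (k0 : k ≠ 0) (hx : x ∈ A) (c : x * e (xC k) = e (xC k) * x) (e2 : E2 x) : x ∈ e.range := by
  obtain ⟨m, hm, r⟩ := h.zc k0
  have a : m⁻¹ * x * m ∈ A := mul_mem (mul_mem (inv_mem hm.1) hx) hm.1
  simpa [mul_assoc] using conj_mem_of_norm hm.2 (h.c2 a (h.c1 (m⁻¹ * x * m) a (by
    simpa [← r, mul_assoc] using congrArg (m⁻¹ * · * m) c)) (by simpa using e2.conj m⁻¹))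

theorem nB (k0 : k ≠ 0) (hw : w ∈ 𝐍 A) (c : w * e (xC k) = e (xC k) * w) : w ∈ 𝐍 e.range := HNR.mem_norm_of fun x m =>
  h.cz k0 (conj_mem_of_norm hw (h.BA m)) (by
    simpa only [conj_eq_of_comm c] using ((show Commute x (e (xC k)) from (zA e).cent.1 (BZ m) k).conj w).eq) (((two e).elt m).conj w)
theorem nB' (hw : w ∈ 𝐍 A) (c : w ∈ 𝐂 (ZZ e)) : w ∈ 𝐍 e.range := h.nB one_ne_zero hw ((zA e).cent.1 c 1)
theorem AZ (m : x ∈ A ⊓ 𝐂 (ZZ e)) : ∃ k ∈ A ⊓ 𝐂 A, ∃ q, e q * k = x :=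
  let ⟨k, hk, q, r⟩ := h.dec.1 (h.c1 _ m.1 ((zA e).cent.1 m.2 1)); ⟨k, ⟨(mul_mem_cancel_left (h.eA q)).1 (r ▸ m.1), hk⟩, q, r⟩

theorem cB (c : e q ∈ 𝐂 e.range) : ∃ k, q = xC k :=
  (by decide +kernel : ∀ q : H, xA 1 * q = q * xA 1 → xB 1 * q = q * xB 1 → ∃ k, q = xC k) q
    (h.inj (by simpa using mem_cent.1 c _ ⟨_, rfl⟩)) (h.inj (by simpa using mem_cent.1 c _ ⟨_, rfl⟩))
theorem nZ : 𝐍 e.range ≤ 𝐍 (ZZ e) := fun _ n => HNR.mem_norm_of fun _ m => by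
  obtain ⟨q, r⟩ := conj_mem_of_norm n (ZB m)
  obtain ⟨k, rfl⟩ := h.cB (r ▸ conj_mem_of_norm (norm_le_norm_cent _ n) (cent_symm BZ m))
  exact ⟨k, r⟩
theorem mZ : e q ∈ ZZ e ↔ q.x = 0 ∧ q.y = 0 := ⟨fun ⟨_, r⟩ => h.inj r ▸ ⟨rfl, rfl⟩, fun r => ⟨q.u, congrArg e (H.ext r.1.symm r.2.symm rfl)⟩⟩

theorem ad (two : P2 P) (l : P ≤ 𝐍 A) : ∃ e η ν ν', Fm A e η ν ν' ∧ P ≤ 𝐍 e.range := by
  obtain ⟨S, hS, l'⟩ := exists_syl_le l two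
  obtain ⟨m, hm, r⟩ := h.syl.syl_conj (hS.inf_normal (normalIn_norm A))
  exact ⟨_, _, _, _, h.cjN (le_norm_self _ hm), by rw [ce_range, ← r]; exact norm_inf (l'.trans (le_norm_self S)) l⟩

theorem cl (hx : x ∈ A) (i : Iv x) : ∃ m ∈ A, m * e (xC 1) * m⁻¹ = x := by
  obtain ⟨m, hm, l⟩ := h.syl.syl_le_cj (zpowers_le.2 hx) i.piGrp
  obtain ⟨_, ⟨q, rfl⟩, rfl⟩ := mem_cj_iff.1 (l (mem_zpowers x))
  have z : ∀ k ≠ 0, ∀ n ∈ A, ∀ p, n * e (xC k) * n⁻¹ = e p → ∃ m ∈ A, m * e (xC 1) * m⁻¹ = e p := fun k k0 n hn p r =>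
    let ⟨m, hm, s⟩ := h.zc k0; ⟨n * m, mul_mem hn hm.1, by rw [← r, ← s]; group⟩
  obtain ⟨n, hn, r⟩ : ∃ m ∈ A, m * e (xC 1) * m⁻¹ = e q := by
    obtain ⟨k, k0, p, rfl | rfl | rfl⟩ := (by decide +kernel : ∀ q : H, q ≠ 1 → q * q = 1 → ∃ k ≠ 0, ∃ p,
      q = p * xC k * p⁻¹ ∨ q = p * xA k * p⁻¹ ∨ q = p * xB k * p⁻¹) q (fun r => i.ne_one (by simp [r]))
      (h.one (by simpa [mul_assoc] using congrArg (m⁻¹ * · * m) i.sq))
    · exact z k k0 _ (h.eA p) _ (ecj ..)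
    · exact z k k0 _ (mul_mem (h.eA p) h.nA) _ (by rw [← ecj, xA, ← h.hν, xC]; group)
    · exact z k k0 _ (mul_mem (h.eA p) h.nA') _ (by rw [← ecj, xB, ← h.hν', xC]; group)
  exact ⟨m * n, mul_mem hm hn, by rw [← r]; group⟩

theorem at' (hx : x ∈ A) (i : Iv x) : ∃ e η ν ν', Fm A e η ν ν' ∧ e (xC 1) = x :=
  let ⟨_, hm, r⟩ := h.cl hx i; ⟨_, _, _, _, h.cjN (le_norm_self _ hm), r⟩

theorem inn (hw : w ∈ 𝐍 A) (r : ∀ q, w * e q * w⁻¹ = e (au 1 1 c d false false q)) : ∃ k ∈ 𝐂 A, ∃ u, e ⟨c, d, u⟩ * k = w := by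
  obtain ⟨k, s⟩ := h.ck ((e ⟨c, d, 0⟩)⁻¹ * w) (mul_mem (inv_mem (le_norm_self _ (h.eA _))) hw) (mem_cent.2 (by
    rintro _ ⟨q, rfl⟩
    rw [eq_comm, ← mul_inv_eq_iff_eq_mul, show ∀ x : G, x⁻¹ * w * e q * (x⁻¹ * w)⁻¹ = x⁻¹ * (w * e q * w⁻¹) * x by intro; group, r,
      ← map_inv, ← map_mul, ← map_mul]
    exact congrArg e (by clear r; revert c d q; decide +kernel)))
  exact ⟨_, s, k, by
    rw [show (⟨c, d, k⟩ : H) = ⟨c, d, 0⟩ * xC k by simp [xC, H.mul_def], map_mul, mul_assoc, ← h.ke s, mul_assoc _ _ (e (xC k)), (zA e).sq]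
    group⟩

theorem sw : Fm A (e.comp gr) η ν' ν := by
  have r : (e.comp gr).range = e.range := le_antisymm (by rintro _ ⟨q, rfl⟩; exact ⟨_, rfl⟩) (by
    rintro _ ⟨q, rfl⟩; exact ⟨gr q, congrArg e (by revert q; decide +kernel)⟩)
  refine ⟨h.inj.comp (by decide +kernel : ∀ p q, gr p = gr q → p = q), r ▸ h.syl, h.ns, by rw [r, gr_C]; exact h.c1, h.hA, h.h3,
    fun q => (h.hη _).trans (congrArg e (by revert q; decide +kernel)), h.nA', fun x u => by simpa [gr] using h.hν' x u,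
    h.nA, fun x u => by simpa [gr] using h.hν x u, fun M l a b d => h.gen M (r ▸ l) a d b, fun w m n => ?_, by simp only [r, gr_C]; exact h.ck⟩
  obtain ⟨a, b, x, y, f, π, a0, b0, s⟩ := h.aut w m (r ▸ n)
  refine ⟨b, a, y, x, f, π, b0, a0, fun q => (s _).trans (congrArg e ?_)⟩
  cases f <;> cases π <;> simp only [au, am, fq, gr, MonoidHom.mk'_apply, cond_true, cond_false, H.mk.injEq, true_and] <;> grind

theorem act (hw : w ∈ 𝐍 A) (n : w ∈ 𝐍 e.range) : ∃ a b f π, a ≠ 0 ∧ b ≠ 0 ∧ Am e w (am a b f π) ∧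
    ∀ k, w * e (xC k) * w⁻¹ = e (xC (a * b * fq f k)) :=
  let ⟨a, b, _, _, f, π, a0, b0, s⟩ := h.aut w hw n
  ⟨a, b, f, π, a0, b0, fun q => ⟨_, s q⟩, fun k => (s _).trans (congrArg e (by cases f <;> cases π <;> simp [au, am, fq, xC]))⟩

theorem actZ (hw : w ∈ 𝐍 A) (c : w ∈ 𝐂 (ZZ e)) : ∃ a b π, a * b = 1 ∧ Am e w (am a b false π) := by
  obtain ⟨a, b, f, π, -, -, s, s'⟩ := h.act hw (h.nB' hw c)
  obtain ⟨rfl, r⟩ := (by decide : ∀ (a b : K) f, (∀ k, k = a * b * fq f k) → f = false ∧ a * b = 1) a b f fun k =>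
    congrArg H.u (h.inj ((conj_eq_of_comm ((zA e).cent.1 c k)).symm.trans (s' k)))
  exact ⟨a, b, π, r, s⟩

theorem uq (r : Am e w φ) (s : Am e w ψ) (x y : K) : φ (x, y) = ψ (x, y) := by
  obtain ⟨u, a⟩ := r ⟨x, y, 0⟩; obtain ⟨u', b⟩ := s ⟨x, y, 0⟩
  have := h.inj (a.symm.trans b)
  exact Prod.ext (congrArg H.x this) (congrArg H.y this)

theorem kr (hw : w ∈ 𝐍 A) (r : Am e w φ) (i : ∀ x y, φ (x, y) = (x, y)) : w ∈ 𝐂 A ⊔ e.range := by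
  obtain ⟨a, b, c, d, f, π, -, -, s⟩ := h.aut w hw (HNR.mem_norm_of (by rintro _ ⟨q, rfl⟩; obtain ⟨u, s⟩ := r q; exact ⟨_, s.symm⟩))
  obtain ⟨rfl, rfl, rfl, rfl⟩ := (by decide +kernel : ∀ (a b : K) f π, (∀ x y, am a b f π (x, y) = (x, y)) →
    a = 1 ∧ b = 1 ∧ f = false ∧ π = false) a b f π fun x y => (h.uq (fun q => ⟨_, s q⟩) r x y).trans (i x y)
  obtain ⟨k, m, u, s⟩ := h.inn hw s
  exact h.dec.2 ⟨k, m, _, s⟩

theorem kr3 (hw : w ∈ 𝐍 A) (e2 : E2 w) (r : Am e w φ) (i : ∀ x y, φ (φ (φ (x, y))) = (x, y)) : w ∈ 𝐂 A ⊔ e.range :=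
  zpowers_le.2 (h.kr (mul_mem hw (mul_mem hw hw)) (r.mul (r.mul r)) i) (by
    rw [show w * (w * w) = w ^ 3 by simp [pow_succ, mul_assoc]]
    exact mem_zpowers_pow_iff.2 ((piNat_self Nat.prime_three).to_compl_single (by decide) |>.coprime' e2))

theorem sq (hw : w ∈ 𝐍 A) (n : w ∈ 𝐍 e.range) (e2 : E2 w) : w * w ∈ 𝐂 A ⊔ e.range := by
  obtain ⟨a, b, f, π, a0, b0, s, -⟩ := h.act hw n
  exact h.kr3 (mul_mem hw hw) (e2.mul e2 rfl) (s.mul s) (by revert a0 b0; clear * -; revert a b f π; decide +kernel)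

theorem cm (two : P2 P) (l : P ≤ 𝐍 A ⊓ 𝐍 e.range) (hx : x ∈ P) (hy : y ∈ P) : x * y * x⁻¹ * y⁻¹ ∈ 𝐂 A ⊔ e.range := by
  have := fun x m => h.sq (l m).1 (l m).2 (two.elt (x := x) m)
  simpa [mul_assoc] using mul_mem (mul_mem (this x hx) (this _ (mul_mem (inv_mem hx) hy))) (inv_mem (this y hy))

theorem ixZ (two : P2 P) (l : P ≤ 𝐍 A ⊓ 𝐂 (ZZ e)) : Ix (𝐂 A ⊔ e.range) P := fun x hx y hy n n' => by
  have : ∀ x ∈ P, x ∉ 𝐂 A ⊔ e.range → ∃ a b, a * b = 1 ∧ Am e x (am a b false true) := fun x m n => by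
    obtain ⟨a, b, π, r, s⟩ := h.actZ (l m).1 (l m).2
    cases π
    · exact absurd (h.kr3 (l m).1 (two.elt m) s (by revert r; clear * -; revert a b; decide +kernel)) n
    · exact ⟨a, b, r, s⟩
  obtain ⟨a, b, r, s⟩ := this x hx n; obtain ⟨a', b', r', s'⟩ := this y hy n'
  exact h.kr3 (l (mul_mem hx hy)).1 (two.elt (mul_mem hx hy)) (s.mul s') (by revert r r'; clear * -; revert a b a' b'; decide +kernel)

theorem fixv (hw : w ∈ 𝐍 A) (c : w ∈ 𝐂 (ZZ e)) (qq : q * q = 1) (nz : e q ∉ ZZ e) (m : w * e q * w⁻¹ * (e q)⁻¹ ∈ ZZ e) :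
    w ∈ 𝐂 A ⊔ e.range := by
  obtain ⟨a, b, π, r, s⟩ := h.actZ hw c
  obtain ⟨u, s'⟩ := s q
  rw [s', ← map_inv, ← map_mul, h.mZ] at m
  rw [h.mZ] at nz
  simp only [H.mul_def, H.inv_def, add0] at m
  replace qq := congrArg H.u qq
  simp only [H.mul_def, aa, zero_add, H.one_def] at qq
  exact h.kr hw s (by revert qq nz m r; generalize q.x = x, q.y = y; clear * -; revert a b π x y; decide +kernel)

theorem cI (hw : w ∈ 𝐍 A) (n : w ∈ 𝐍 e.range) (i : Ix I e.range) (c : ∀ q, e q ∈ I → w * e q = e q * w) : w ∈ 𝐂 e.range := by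
  obtain ⟨a, b, x, y, f, π, -, -, s⟩ := h.aut w hw n
  have z : ∀ q, e q ∈ I → au a b x y f π q = q := fun q m => h.inj ((s q).symm.trans (conj_eq_of_comm (c q m)))
  have := (by decide +kernel : ∀ f π a b c d, (∀ p q, au a b c d f π p = p ∨ au a b c d f π q = q ∨ au a b c d f π (p * q) = p * q) →
    ∀ q, au a b c d f π q = q) f π a b x y fun p q => by
      by_cases m : e p ∈ I; · exact .inl (z p m)
      by_cases m' : e q ∈ I; · exact .inr (.inl (z q m'))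
      exact .inr (.inr (z _ (map_mul e p q ▸ i _ ⟨p, rfl⟩ _ ⟨q, rfl⟩ m m')))
  exact mem_cent.2 (by rintro _ ⟨q, rfl⟩; exact (mul_inv_eq_iff_eq_mul.1 ((s q).trans (congrArg e (this q)))).symm)

theorem kV (hw : w ∈ 𝐍 A) (c : ∀ x u, w * e ⟨x, 0, u⟩ = e ⟨x, 0, u⟩ * w) : ∃ k ∈ 𝐂 A, ∃ x u, e ⟨x, 0, u⟩ * k = w := by
  obtain ⟨a, b, x, y, f, π, -, -, s⟩ := h.aut w hw (h.nB one_ne_zero hw (c 0 1))
  obtain ⟨rfl, rfl, rfl, rfl, rfl⟩ := (by decide +kernel : ∀ f π a b d, (∀ x u, au a b 0 d f π ⟨x, 0, u⟩ = ⟨x, 0, u⟩) →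
    a = 1 ∧ b = 1 ∧ d = 0 ∧ f = false ∧ π = false) f π a b y fun x' u => by
      have := h.inj ((s _).symm.trans (conj_eq_of_comm (c x' u)))
      have y0 := congrArg H.y this
      simp only [au] at this y0 ⊢
      simpa only [y0, mul_zero] using this
  obtain ⟨k, m, u, s⟩ := h.inn hw s
  exact ⟨k, m, x, u, s⟩

theorem ck' (hw : w ∈ 𝐍 A) (c : w ∈ 𝐂 e.range) : ∃ k ∈ 𝐂 A, ∃ l, e (xC l) * k = w :=
  let ⟨l, r⟩ := h.ck w hw c; ⟨_, r, l, by rw [← h.ke r, mul_assoc, (zA e).sq, mul_one]⟩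

end Fm

end CF.CvZ
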