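import Cfsg.Agent.Cv.Z5

/-! Pairs of conjugates of the standard subgroup. -/

set_option autoImplicit false
set_option linter.unusedSectionVars false
set_option linter.constructorNameAsVariable false
set_option synthInstance.maxSize 2048

namespace CF.CvZ
open Subgroup Cfsg CF.BG CF.GW CF.Ab2 Equiv CF.StA CF.Kondo
open CF.SzC hiding In Cf Xi Gd
open CF.SzD hiding Fm Tp XI fu

variable {G : Type*} [Group G] [Finite G] {A A₁ I M P : Subgroup G} {e e₁ : H →* G} {g m r v w x y η ν ν' η₁ ν₁ ν₁' : G}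
  {p q : H} {k l : K}

namespace Fm
variable (h : Fm A e η ν ν')
include h

theorem cZ : ♯(ZZ e) = 4 := by
  rw [← K.card, ← Nat.card_eq_fintype_card]
  exact (Nat.card_eq_of_bijective (fun a => (⟨_, (zA e).m a⟩ : ZZ e)) ⟨fun a b r => congrArg H.u (h.inj (congrArg Subtype.val r)),
    fun ⟨_, a, r⟩ => ⟨a, Subtype.ext r⟩⟩).symm
theorem cR : ♯e.range = 64 := H.card ▸ (Nat.card_congr (MonoidHom.ofInjective h.inj).toEquiv).symm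

theorem cc (l : e₁.range ≤ 𝐍 A ⊓ 𝐂 e.range) (k : K) : e₁ (xC k) ∈ 𝐂 A := by
  obtain ⟨x, hx, a, r⟩ := h.ck' (l ⟨xA k, rfl⟩).1 (l ⟨_, rfl⟩).2
  obtain ⟨y, hy, b, r'⟩ := h.ck' (l ⟨xB 1, rfl⟩).1 (l ⟨_, rfl⟩).2
  rw [(by decide : ∀ k, xC k = xA k * xB 1 * (xA k)⁻¹ * (xB 1)⁻¹) k, map_mul, map_mul, map_mul, map_inv, map_inv, ← r, ← r']
  have := mul_mem (mul_mem (mul_mem hx hy) (inv_mem hx)) (inv_mem hy)
  convert this using 1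
  have c := fun x (m : x ∈ 𝐂 A) q z => show e q * (x * z) = x * (e q * z) by rw [← mul_assoc, ← h.ke m, mul_assoc]
  simp only [mul_inv_rev, mul_assoc, ← map_inv, c _ hx, c _ hy, c _ (inv_mem hx), ← h.ke (inv_mem hy), c _ (inv_mem hy), ← map_mul]
  rw [(by decide : ∀ a b, xC a * (xC b * ((xC a)⁻¹ * (xC b)⁻¹)) = 1), map_one, mul_one]

theorem nd (s : Sd A) (hx : x ∈ A) (hy : y ∈ 𝐂 A) (c : IsConj x y) (xx : x * x = 1) : x = 1 := by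
  by_contra x1
  have iy : Iv y := let ⟨g, r⟩ := isConj_iff.1 c; r ▸ (Iv.mk' x1 xx).conj g
  obtain ⟨S, hS⟩ := exists_syl 2 (𝐂₁ y)
  have SA : S ≤ 𝐍 A := fun z m => s.cen hy iy (mem_cent1.1 (hS.le m))
  obtain ⟨m, hm, rfl⟩ := h.cl hx (.mk' x1 xx)
  replace c : ∀ x ∈ A, Iv x → IsConj y x := fun x hx i => let ⟨n, _, r⟩ := h.cl hx i
    c.symm.trans ((isConj_iff.2 ⟨m, rfl⟩ : IsConj (e (xC 1)) _).symm.trans (isConj_iff.2 ⟨n, r⟩))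
  obtain ⟨e, η, ν, ν', h, SB⟩ := h.ad hS.pi SA
  clear x1 xx hx hm
  have BS : e.range ≤ S := hS.le_of_norm (le_cent1_iff.2 (h.KB hy)) (two e) (.inr SB)
  obtain ⟨_, ⟨⟨k, rfl⟩, zS⟩, iz⟩ := exists_iv_of_two (zA e).two.inf_left (hS.pi.inf_cent_ne_bot (zA e).two (SB.trans h.nZ)
    (ne_bot_of_mem ((zA e).m 1) (h.iz one_ne_zero).ne_one))
  have k0 : k ≠ 0 := fun r => iz.ne_one (r ▸ (zA e).z)
  obtain ⟨g, r⟩ := isConj_iff.1 (c _ (h.eA _) iz)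
  obtain ⟨c, hc, r'⟩ := ((hS.cj g).of_card (K := S) (by rw [cj_cent1, r]; exact le_cent1_iff.2 zS) (card_cj g S).symm).syl_conj (hS.cj g)
  rw [cj_cent1, r] at hc
  replace r : c⁻¹ * g * y * (c⁻¹ * g)⁻¹ = e (xC k) := by
    rw [← conj_eq_of_comm (mem_cent1.1 (inv_mem hc)), ← r]; group
  replace r' : cj (c⁻¹ * g) S = S := by rw [← cj_cj, r', cj_cj, inv_mul_cancel, cj_one]
  generalize c⁻¹ * g = g at r r'
  have h₁ := h.cj g; have s₁ := s.cj g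
  have z1 : e (xC k) ∈ 𝐂 (cj g A) := by rw [← r, ← cj_cent]; exact conj_mem_cj.2 hy
  have BS₁ : (ce g e).range ≤ S := by rw [ce_range, ← r']; exact cj_mono _ BS
  have SB₁ : S ≤ 𝐍 (ce g e).range := by rw [ce_range, ← cj_norm, ← r']; exact cj_mono _ SB
  have SA₁ : S ≤ 𝐍 (cj g A) := by rw [← cj_norm, ← r']; exact cj_mono _ SA
  generalize ce g e = e₁, g * η * g⁻¹ = η₁, g * ν * g⁻¹ = ν₁, g * ν' * g⁻¹ = ν₁' at h₁ BS₁ SB₁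
  have n1 : e (xC k) ∉ cj g A := fun m => iz.ne_one (h₁.ns.one m z1 iz.sq)
  have cc : e.range ≤ 𝐂 e₁.range := by
    by_cases b : e.range ⊓ e₁.range = ⊥
    · exact cent_of_inf_eq_bot (BS.trans SB₁) (BS₁.trans SB) b
    obtain ⟨_, ⟨⟨⟨p, rfl⟩, u1⟩, uS⟩, iu⟩ := exists_iv_of_two (two e).inf_left.inf_left (hS.pi.inf_cent_ne_bot (two e).inf_left (norm_inf SB SB₁) b)
    obtain ⟨l, rfl⟩ := h.cB (cent_anti BS uS)
    have cZ : e₁.range ≤ 𝐂 (ZZ e) := fun x m => (zA e).cent.2 fun j => by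
      have a := mem_cent.1 z1 x (h₁.BA m); have b := mem_cent.1 uS x (BS₁ m)
      rcases (by decide : ∀ k l j : K, k ≠ 0 → l ≠ 0 → l ≠ k → j = 0 ∨ j = k ∨ j = l ∨ j = k + l) k l j k0
        (fun r => iu.ne_one (r ▸ (zA e).z)) (fun r => n1 (r ▸ h₁.BA u1)) with rfl | rfl | rfl | rfl
      exacts [by simp [(zA e).z], a, b, zad e _ _ ▸ Commute.mul_right a b]
    refine fun w m => h₁.cI (SA₁ (BS m)) (SB₁ (BS m)) (I := e₁.range ⊓ (𝐂 A ⊔ e.range))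
      (fun x hx y hy a b => ⟨mul_mem hx hy, h.ixZ (two e₁) (le_inf (BS₁.trans SA) cZ) x hx y hy (fun r => a ⟨hx, r⟩) fun r => b ⟨hy, r⟩⟩)
      fun q n => ?_
    obtain ⟨x, hx, p, r⟩ := h.dec.1 n.2
    obtain ⟨p', s⟩ | ⟨j, rfl⟩ := (by decide +kernel : ∀ (k : K) (p : H), (∃ q, p * q * p⁻¹ * q⁻¹ = xC k) ∨ ∃ j, p = xC j) k p
    · refine absurd (h₁.BA ?_) n1
      have := mul_mem n.1 (conj_mem_of_norm (SB₁ (BS ⟨p', rfl⟩)) (inv_mem n.1))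
      rw [← r, mul_assoc, ← mul_assoc x, ← mul_assoc x, h.ke hx, mul_inv_rev] at this
      simpa [← s, mul_assoc] using this
    · exact r ▸ Commute.mul_right (mem_cent.1 (cent_symm BZ ((zA e).m j)) w m) (mem_cent.1 (h.KB hx) w m)
  have Z1 := h₁.cc (le_inf (BS.trans SA₁) cc); have Z2 := h.cc (le_inf (BS₁.trans SA) (cent_symm cc))
  have hη := s₁.ti _ z1 iz η (h.hz k ▸ Z1 _)
  have B1 : e.range ≤ 𝐂 (cj g A) := by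
    rintro _ ⟨q, rfl⟩
    obtain ⟨p, rfl⟩ := (by decide +kernel : ∀ q : H, ∃ p : H, q = ⟨ω' * p.x, ω' * p.y, ω * p.u⟩ * p⁻¹) q
    obtain ⟨x, hx, j, r⟩ := h₁.ck' (SA₁ (BS ⟨p, rfl⟩)) (cc ⟨p, rfl⟩)
    have := mul_mem (conj_mem_of_norm (norm_le_norm_cent _ hη) hx) (inv_mem hx)
    rw [map_mul, map_inv, ← h.hη, ← r, ← mul_assoc η, mem_cent.1 (Z2 j) η h.hA, mul_inv_rev]
    simpa [mul_assoc] using conj_mem_of_norm (norm_le_norm_cent _ (le_norm_self _ (h₁.eA (xC j)))) this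
  have AN := h.gen _ (B1.trans (cent_le_norm _)) hη (s₁.ti _ z1 iz ν (h.hν 0 k ▸ B1 ⟨_, rfl⟩)) (s₁.ti _ z1 iz ν' (h.hν' 0 k ▸ B1 ⟨_, rfl⟩))
  exact n1 ((cj_of_norm (s.std g (((h.ns.eq_or _ (normalIn_inf_left (AN.trans (norm_le_norm_cent _)))).resolve_left
    fun l => iz.ne_one (h.ns.one (h.eA _) (l ⟨h.eA _, z1⟩) iz.sq)).trans inf_le_right))).symm ▸ h.eA _)

theorem eq (h₁ : Fm A₁ e₁ η₁ ν₁ ν₁') (l : e₁.range ≤ 𝐍 A ⊓ 𝐍 e.range) (l' : e.range ≤ 𝐍 e₁.range)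
    (inv : ∀ q, q * q = 1 → e₁ q ∈ 𝐂 A ⊔ e.range → e₁ q ∈ e.range) : e₁.range = e.range := by
  have Z1 : ∀ k, e₁ (xC k) ∈ e.range := fun k => inv _ (by revert k; decide) (by
    simpa [← map_inv, ← map_mul, (by decide : ∀ k, xA k * xB 1 * (xA k)⁻¹ * (xB 1)⁻¹ = xC k)] using h.cm (two e₁) l ⟨xA k, rfl⟩ ⟨xB 1, rfl⟩)
  have eZ : ZZ e₁ = ZZ e := by
    by_cases c : ZZ e₁ ≤ ZZ e
    · exact eq_of_card_le c (h.cZ.trans h₁.cZ.symm).le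
    obtain ⟨k, n⟩ := not_forall.1 (mt (zA e₁).le.2 c)
    obtain ⟨p, r⟩ := Z1 k
    refine (eq_of_card_le ((zA e).le.2 fun j => ?_) (h₁.cZ.trans h.cZ.symm).le).symm
    obtain ⟨q, s⟩ | ⟨j, rfl⟩ := (by decide +kernel : ∀ (k : K) (p : H), (∃ q, q * p * q⁻¹ * p⁻¹ = xC k) ∨ ∃ j, p = xC j) j p
    · have m : e p ∈ ZZ e₁ := ⟨k, r.symm⟩
      simpa [← s] using mul_mem (conj_mem_of_norm (h₁.nZ (l' ⟨q, rfl⟩)) m) (inv_mem m)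
    · exact absurd ⟨j, r⟩ n
  have cZ : e₁.range ≤ 𝐍 A ⊓ 𝐂 (ZZ e) := le_inf (l.trans inf_le_left) (eZ ▸ BZ)
  obtain ⟨k, k0, m⟩ : ∃ k ≠ 0, e₁ (xA k) ∈ 𝐂 A ⊔ e.range := by
    by_contra! n
    exact n (1 + ω) (by decide) (aad e₁ 1 ω ▸ h.ixZ (two e₁) cZ _ ⟨_, rfl⟩ _ ⟨_, rfl⟩ (n 1 one_ne_zero) (n ω w0))
  obtain ⟨p, r⟩ := inv _ (by clear * -; revert k; decide) m
  have KB : ∀ q, e₁ q ∈ 𝐂 A ⊔ e.range := fun q => h.fixv (cZ ⟨q, rfl⟩).1 (cZ ⟨q, rfl⟩).2 (q := p) (h.one (by rw [map_mul, r, (aA e₁).sq]))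
    (by rw [r, ← eZ, h₁.mZ]; exact fun r => k0 r.1) (by
      rw [r, ← eZ, ← map_inv, ← map_inv, ← map_mul, ← map_mul, ← map_mul, h₁.mZ]; clear * -; revert k q; decide +kernel)
  refine eq_of_card_le ?_ (h.cR.trans h₁.cR.symm).le
  rintro _ ⟨q, rfl⟩
  rw [(by decide +kernel : ∀ q : H, q = xB q.y * xA q.x * xC q.u) q, map_mul, map_mul]
  exact mul_mem (mul_mem (inv _ (by generalize q.y = k; revert k; decide) (KB _)) (inv _ (by generalize q.x = k; revert k; decide) (KB _))) (Z1 _)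

theorem inv2 (hx : x ∈ 𝐂 A) (r : e q * x * (e q * x) = 1) : q * q = 1 ∧ x * x = 1 := by
  refine (h.ns.dec (h.eA (q * q)) (mul_mem hx hx) (one_mem _) (one_mem _) ?_ ((two e).elt ⟨_, rfl⟩) (e2_of_one (mul_one 1))).imp_left h.one
  rw [map_mul, mul_assoc, ← mul_assoc (e q) x, ← h.ke hx, mul_assoc x, ← mul_assoc (e q) x, r, mul_one]

theorem fixA (hw : w ∈ 𝐍 A) (hx : x ∈ A) (hy : y ∈ 𝐂 A) (c : w * (x * y) = x * y * w) (ex : E2 x) : w * x = x * w ∧ w * y = y * w :=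
  (h.ns.dec (conj_mem_of_norm hw hx) (conj_mem_of_norm (norm_le_norm_cent _ hw) hy) hx hy
    (Eq.trans (by group) (conj_eq_of_comm c)) (ex.conj w) ex).imp mul_inv_eq_iff_eq_mul.1 mul_inv_eq_iff_eq_mul.1

theorem fourZ (f : FP r v) (l : V4 r v ≤ 𝐍 A ⊓ 𝐍 e.range) : ∃ x ∈ V4 r v, Iv x ∧ x ∈ 𝐂 (ZZ e) := by
  obtain ⟨a, b, φ, -, -, -, -, s⟩ := h.act (l (left_mem_V4 r v)).1 (l (left_mem_V4 r v)).2
  obtain ⟨a', b', φ', -, -, -, -, s'⟩ := h.act (l (right_mem_V4 r v)).1 (l (right_mem_V4 r v)).2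
  have m : ∀ {x y : G} {f g : K → K}, (∀ k, x * e (xC k) * x⁻¹ = e (xC (f k))) → (∀ k, y * e (xC k) * y⁻¹ = e (xC (g k))) →
      ∀ k, x * y * e (xC k) * (x * y)⁻¹ = e (xC (f (g k))) := fun a b k => by rw [← a, ← b]; group
  have o : ∀ {x : G} {f : K → K}, x * x = 1 → (∀ k, x * e (xC k) * x⁻¹ = e (xC (f k))) → ∀ k, f (f k) = k := fun i a k =>
    congrArg H.u (h.inj (a₂ := xC k) ((m a a k).symm.trans (by simp [i])))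
  have c : ∀ {x : G} {f : K → K}, (∀ k, x * e (xC k) * x⁻¹ = e (xC (f k))) → (∀ k, f k = k) → x ∈ 𝐂 (ZZ e) := fun a b =>
    (zA e).cent.2 fun k => mul_inv_eq_iff_eq_mul.1 ((a k).trans (by rw [b]))
  rcases (by decide +kernel : ∀ (c c' : K) f f', (∀ k, c * fq f (c * fq f k) = k) → (∀ k, c' * fq f' (c' * fq f' k) = k) →
    (∀ k, c * fq f (c' * fq f' (c * fq f (c' * fq f' k))) = k) → (∀ k, c * fq f k = k) ∨ (∀ k, c' * fq f' k = k) ∨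
      ∀ k, c * fq f (c' * fq f' k) = k) _ _ _ _ (o f.l.sq s) (o f.r.sq s') (o f.iv.sq (m s s')) with t | t | t
  exacts [⟨_, left_mem_V4 _ _, f.l, c s t⟩, ⟨_, right_mem_V4 _ _, f.r, c s' t⟩,
    ⟨_, mul_mem (left_mem_V4 _ _) (right_mem_V4 _ _), f.iv, c (m s s') t⟩]

end Fm

/-- pairs of conjugates -/
structure Tp (A A₁ : Subgroup G) : Prop where
  s : Sd A
  s₁ : Sd A₁
  f : ∃ e η ν ν', Fm A e η ν ν'
  f₁ : ∃ e η ν ν', Fm A₁ e η ν ν'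
  ti : ∀ x ∈ 𝐂 A, x ∈ 𝐂 A₁ → x * x = 1 → x = 1
  nd : ∀ x y, x ∈ A ∨ x ∈ A₁ → y ∈ 𝐂 A ∨ y ∈ 𝐂 A₁ → IsConj x y → x * x = 1 → x = 1

theorem Fm.nd' (h : Fm A e η ν ν') (s : Sd A) (hx : x ∈ BG.cj g A) (hy : y ∈ 𝐂 (BG.cj m A)) (c : IsConj x y) (xx : x * x = 1) : x = 1 := by
  have := h.nd s (mem_cj.1 hx) (mem_cjc.2 hy) (((isConj_iff.2 ⟨g, by group⟩ : IsConj (g⁻¹ * x * g) x).trans c).trans
    (isConj_iff.2 ⟨m⁻¹, by group⟩)) (by simp [mul_assoc, ← mul_assoc x, xx])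
  simpa [mul_assoc] using congrArg (g * · * g⁻¹) this

theorem Fm.tp (h : Fm A e η ν ν') (s : Sd A) (hg : g ∉ 𝐍 A) : Tp A (BG.cj g A) :=
  ⟨s, s.cj g, ⟨_, _, _, _, h⟩, ⟨_, _, _, _, h.cj g⟩, fun _ a b => s.ti' hg a b, fun _ _ a b c d =>
    a.elim (fun a => b.elim (fun b => h.nd s a b c d) fun b => h.nd' s (g := 1) ((cj_one A).symm ▸ a) b c d) fun a =>
      b.elim (fun b => h.nd' s (m := 1) a ((cj_one A).symm ▸ b) c d) fun b => h.nd' s a b c d⟩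

namespace Tp
variable (t : Tp A A₁)
include t

theorem symm : Tp A₁ A := ⟨t.s₁, t.s, t.f₁, t.f, fun x a b => t.ti x b a, fun x y a b => t.nd x y a.symm b.symm⟩
theorem nd1 (two : P2 P) (l : P ≤ A) (hx : x ∈ P) (c : x ∈ 𝐂 A₁) : x = 1 :=
  bot_of two.inf_left (fun y m => t.nd y y (.inl (l m.1)) (.inr m.2) (.refl y)) ⟨hx, c⟩

theorem p1 (f : FP r v) (l : V4 r v ≤ 𝐂 A₁ ⊓ 𝐍 A) : ∃ e η ν ν' ρ, Fm A e η ν ν' ∧ Ad ρ ∧ (∀ k, ρ k ∈ 𝐂 A) ∧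
    (∀ k, ρ k * e (xC k) ∈ V4 r v) ∧ V4 r v ≤ 𝐂 e.range := by
  have c : ∀ {e η ν ν'}, Fm A e η ν ν' → V4 r v ≤ 𝐍 e.range → ∀ x ∈ V4 r v, Iv x → ∀ q, e q * x = x * e q → e q ∈ 𝐂 (V4 r v) :=
    fun {e _ _ _} h n x hx i q c => mem_cent.2 fun y hy => mul_inv_eq_iff_eq_mul.1 (mul_inv_eq_one.1 (t.nd1 (two e) h.BA
      (mul_mem (conj_mem_of_norm (n hy) ⟨q, rfl⟩) (inv_mem ⟨q, rfl⟩)) (by
        simpa [mul_assoc] using mul_mem (l hy).1 (conj_mem_of_norm (norm_le_norm_cent _ (t.s₁.cen (l hx).1 i c)) (inv_mem (l hy).1)))))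
  obtain ⟨e, η, ν, ν', h⟩ := t.f
  obtain ⟨e, η, ν, ν', h, n⟩ := h.ad f.pi (l.trans inf_le_right)
  obtain ⟨x, hx, i, z⟩ := h.fourZ f (le_inf (l.trans inf_le_right) n)
  obtain ⟨x, hx, i, m⟩ := (h.ixZ f.pi (le_inf (l.trans inf_le_right) (cent_symm ((zA e).le.2 fun k =>
    c h n x hx i _ ((zA e).cent.1 z k).symm)))).four f le_rfl
  obtain ⟨y, hy, q, rfl⟩ := h.dec.1 m
  obtain ⟨qq, yy⟩ := h.inv2 hy i.sq
  obtain ⟨e', η, ν, ν', h', r'⟩ := h.at' (h.eA q) (.mk' (fun r => i.ne_one (by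
    rw [r, one_mul] at hx ⊢; exact t.ti y hy (l hx).1 yy)) (by rw [← map_mul, qq, map_one]))
  have cB : V4 r v ≤ 𝐂 e'.range := cent_symm (by
    rintro _ ⟨p, rfl⟩
    exact c h' (fun w m => h'.nB one_ne_zero (l m).2 (r' ▸ (h.fixA (l m).2 (h.eA q) hy (f.abel.mul_comm m hx) ((two e).elt ⟨q, rfl⟩)).1)) _ hx i p
      (Commute.mul_right (r' ▸ (zA e').cent.1 (BZ ⟨p, rfl⟩) 1) (h'.ke hy p).symm))
  clear * - t f l h' cB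
  have e2 : ∀ {x y k l}, y ∈ V4 r v → x * e' (xC k) ∈ 𝐂 A → y * e' (xC l) ∈ 𝐂 A → x * y * e' (xC (k + l)) ∈ 𝐂 A := fun hy s t => by
    have := mul_mem s t
    rwa [mul_assoc, ← mul_assoc (e' _), mem_cent.1 (cB hy) _ ⟨_, rfl⟩, mul_assoc _ (e' _), ← zad, ← mul_assoc] at this
  have e3 : ∀ {x}, x ∈ V4 r v → x * e' (xC 0) ∈ 𝐂 A → x = 1 := fun hx s => t.ti _ (by simpa [z0] using s) (l hx).1 (f.sq hx)
  have a := left_mem_V4 r v; have b := right_mem_V4 r v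
  obtain ⟨k, s⟩ := h'.ck r (l a).2 (cB a); obtain ⟨k', s'⟩ := h'.ck v (l b).2 (cB b)
  have s'' := e2 b s s'
  choose τ m hρ using fun l => show ∃ x ∈ V4 r v, x * e' (xC l) ∈ 𝐂 A by
    rcases (by decide : ∀ k k' l : K, k ≠ 0 → k' ≠ 0 → k + k' ≠ 0 → l = 0 ∨ l = k ∨ l = k' ∨ l = k + k') k k' l
      (fun e => f.l.ne_one (e3 a (e ▸ s))) (fun e => f.r.ne_one (e3 b (e ▸ s')))
      (fun e => f.iv.ne_one (e3 (mul_mem a b) (e ▸ s''))) with rfl | rfl | rfl | rfl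
    exacts [⟨1, one_mem _, by simp [z0]⟩, ⟨_, a, s⟩, ⟨_, b, s'⟩, ⟨_, mul_mem a b, s''⟩]
  refine ⟨e', η, ν, ν', fun k => τ k * e' (xC k), h', fun k l => ?_, hρ, fun k => by simpa [mul_assoc, zz] using m k, cB⟩
  have := e3 (mul_mem (mul_mem (m k) (m l)) (m (k + l))) (aa (k + l) ▸ e2 (m _) (e2 (m _) (hρ k) (hρ l)) (hρ (k + l)))
  beta_reduce
  rw [← inv_eq_of_mul_eq_one_left (f.sq (m (k + l))), ← eq_inv_of_mul_eq_one_left this, zad, mul_assoc, mul_assoc,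
    ← mul_assoc (e' _), mem_cent.1 (cB (m l)) _ ⟨_, rfl⟩, mul_assoc]

theorem pair (f : FP r v) (l : V4 r v ≤ 𝐂 A₁ ⊓ 𝐍 A) : ∃ e η ν ν' ρ, Fm A e η ν ν' ∧ Ad ρ ∧ (∀ k, ρ k ∈ 𝐂 A) ∧
    (∀ k, ρ k * e (xC k) ∈ 𝐂 A₁) ∧ V4 r v ≤ 𝐂 e.range ∧ Syl 2 e.range A₁ := by
  obtain ⟨e, η, ν, ν', ρ, h, a, rK, rT, cB⟩ := t.p1 f l
  have r0 : ∀ k, ρ k = 1 → k = 0 := fun k s => congrArg H.u (h.one (t.nd _ _ (.inl (h.eA _)) (.inr (by simpa [s] using (l (rT k)).1))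
    (.refl _) (zz e k)))
  have iv : ∀ k ≠ 0, Iv (ρ k) := fun k n => .mk' (mt (r0 k) n) (a.sq k)
  have iT : Iv (ρ 1 * e (xC 1)) := f.iv_of_mem (rT 1) fun s => one_ne_zero (r0 1 (h.ns.one (eq_inv_of_mul_eq_one_left s ▸
    inv_mem (h.eA _)) (rK 1) (a.sq 1)))
  have f' : FP (ρ 1) (ρ ω) := ⟨iv 1 one_ne_zero, iv ω w0, a.comm _ _, fun s => absurd (r0 (1 + ω) (by rw [a, s, a.sq])) (by decide)⟩
  have mR : ∀ k, ρ k ∈ V4 (ρ 1) (ρ ω) := fun k => f'.mem.2 (by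
    cases k; exacts [.inl a.z, .inr (.inl rfl), .inr (.inr (.inl rfl)), .inr (.inr (.inr (a 1 ω)))])
  have rN : ∀ k, ρ k ∈ 𝐍 A₁ := fun k => t.s₁.cen (l (rT 1)).1 iT (Commute.mul_right (a.comm _ _) (h.ke (rK k) _))
  obtain ⟨e₁, η₁, ν₁, ν₁', ρ₁, h₁, a₁, rK₁, rT₁, cB₁⟩ := t.symm.p1 f' (V4_le.2 ⟨⟨rK _, rN _⟩, rK _, rN _⟩)
  have BN : e.range ≤ 𝐍 A₁ := fun x m => t.s₁.cen (l (rT 1)).1 iT (mem_cent.1 (cB (rT 1)) x m)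
  have BN₁ : e₁.range ≤ 𝐍 A := fun x m => t.s.cen (rK 1) (iv 1 one_ne_zero) (mem_cent.1 (cB₁ (mR 1)) x m)
  have n₁ : e₁.range ≤ 𝐍 e.range := fun x m => h.nB one_ne_zero (BN₁ m) (by
    have := (show Commute x (ρ 1) from mem_cent.1 (cB₁ (mR 1)) x m).mul_right (show Commute x _ from mem_cent.1 (l (rT 1)).1 x (h₁.BA m))
    rwa [← mul_assoc, a.sq, one_mul] at this)
  have n : e.range ≤ 𝐍 e₁.range := fun x m => h₁.nB one_ne_zero (BN m) (h₁.fixA (BN m) (h₁.eA _) (rK₁ 1) (by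
    rw [← h₁.ke (rK₁ 1)]; exact mem_cent.1 (cent_anti h.BA (V4_le.2 ⟨rK _, rK _⟩ (rT₁ 1))) x m) ((two e₁).elt ⟨_, rfl⟩)).1
  refine ⟨e, η, ν, ν', ρ, h, a, rK, fun k => (l (rT k)).1, cB, h.eq h₁ (le_inf BN₁ n₁) n (fun q qq m => ?_) ▸ h₁.syl⟩
  obtain ⟨x, hx, p, r⟩ := h.dec.1 m
  have qq' : e₁ q * e₁ q = 1 := by rw [← map_mul, qq, map_one]
  obtain ⟨pp, xx⟩ := h.inv2 hx (r ▸ qq')
  have ex := eq_inv_mul_of_mul_eq r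
  have xN : x ∈ 𝐍 e₁.range := ex ▸ mul_mem (inv_mem (n ⟨p, rfl⟩)) (le_norm_self _ ⟨q, rfl⟩)
  obtain ⟨y, hy, k, s⟩ := h₁.ck' (ex ▸ mul_mem (inv_mem (BN ⟨p, rfl⟩)) (le_norm_self _ (h₁.eA q))) (mem_cent.2 fun b m =>
    (mul_inv_eq_iff_eq_mul.1 (mul_inv_eq_one.1 (t.symm.nd1 (two e₁) h₁.BA (mul_mem (conj_mem_of_norm xN m) (inv_mem m)) (by
      simpa [mul_assoc] using mul_mem hx (conj_mem_of_norm (norm_le_norm_cent _ (BN₁ m)) (inv_mem hx)))))).symm)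
  obtain ⟨c, rc⟩ : ∃ c, ρ c = ρ₁ k * e₁ (xC k) := by
    rcases f'.mem.1 (rT₁ k) with s | s | s | s
    exacts [⟨0, a.z.trans s.symm⟩, ⟨1, s.symm⟩, ⟨ω, s.symm⟩, ⟨1 + ω, (a _ _).trans s.symm⟩]
  have xc : x * ρ c = ρ c * x := ex ▸ Commute.mul_left (Commute.inv_left (h.ke (rK c) p).symm) (mem_cent.1 (cB₁ (mR c)) _ ⟨q, rfl⟩)
  obtain rfl : x = ρ c := (eq_inv_of_mul_eq_one_left (t.ti _ (mul_mem hx (rK c)) (by
    rw [rc, ← s, ← h₁.ke hy, h₁.ke (rK₁ k), mul_assoc, ← mul_assoc (e₁ _), zz, one_mul]; exact mul_mem hy (rK₁ k)) (by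
      rw [mul_assoc, ← mul_assoc (ρ c), ← xc, mul_assoc, a.sq, mul_one, xx]))).trans (a.inv c)
  by_cases c0 : c = 0; · exact ⟨p, by rw [← r, c0, a.z, mul_one]⟩
  refine t.nd _ (if p = 1 then ρ c else ρ c * e (xC c)) (.inr (h₁.eA q)) (by split_ifs; exacts [.inl (rK c), .inr (l (rT c)).1]) ?_ qq' ▸ one_mem _
  split_ifs with p1
  · rw [← r, p1, map_one, one_mul]
  obtain ⟨m, hm, s⟩ := h.cl (h.eA p) (.mk' (mt h.one p1) (by rw [← map_mul, pp, map_one]))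
  obtain ⟨m', hm', s'⟩ := h.zc c0
  refine isConj_iff.2 ⟨m' * m⁻¹, ?_⟩
  rw [← r, ← s, ← s', ← mul_assoc (ρ c), ← mul_assoc (ρ c), ← mem_cent.1 (rK c) m' hm'.1, mul_assoc m' (ρ c), h.ke (rK c),
    mul_assoc _ m⁻¹ (ρ c), mem_cent.1 (rK c) _ (inv_mem hm)]; group

end Tp

end CF.CvZ
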